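import Mathlib
import Cfsg.Agent.Lib.Helper44.FW.Defs

/-!
# Project FW (S3211): package [TRANS]

Transport of the `SL₂(F)` facts ([SL2U], [SL2SQ]) to a subgroup `L ≅ SL₂(F)`.
-/

set_option autoImplicit false

namespace Cfsg.Agent.Lib.Helper47.FW

open Cfsg.Agent.Lib.Helper44.FW

universe u v

/-- In a finite field of odd cardinality, `2 ≠ 0`. -/
theorem two_ne_zero_of_odd_card (F : Type v) [Field F] [Fintype F]
    (hodd : Odd (Fintype.card F)) : (2 : F) ≠ 0 := by
  intro h
  obtain ⟨k, hk⟩ := hodd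
  have h0 : ((Fintype.card F : ℕ) : F) = 0 := Nat.cast_card_eq_zero F
  rw [hk] at h0
  push_cast at h0
  rw [h] at h0
  simp at h0

/-- `(qA F)² = negOne F`. -/
theorem qA_sq (F : Type v) [Field F] : (qA F) ^ 2 = negOne F := by
  apply Subtype.ext
  rw [pow_two]
  show (!![0, -1; 1, 0] : Matrix (Fin 2) (Fin 2) F) * !![0, -1; 1, 0] = !![-1, 0; 0, -1]
  ext i k
  fin_cases i <;> fin_cases k <;> simp [Matrix.mul_apply, Fin.sum_univ_two]

/-- `negOne F ≠ 1` when `2 ≠ 0`. -/
theorem negOne_ne_one (F : Type v) [Field F] (h2 : (2 : F) ≠ 0) : negOne F ≠ 1 := by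
  intro h
  have h1 : (negOne F).1 0 0 = (1 : Matrix.SpecialLinearGroup (Fin 2) F).1 0 0 := by rw [h]
  have h3 : (-1 : F) = 1 := by
    simpa [negOne] using h1
  apply h2
  have : (2 : F) = 1 - (-1) := by norm_num
  rw [this, h3]; simp

/-- [TRANS] transport to a subgroup `L ≅ SL₂(F)`. -/
theorem pkgTrans : PkgSL2U.{v} → PkgSL2SQ.{v} → PkgTrans.{u, v} := by
  intro hU hSQ G _ F _ _ hodd L hL j hj hord
  obtain ⟨e⟩ := hL
  have h2 : (2 : F) ≠ 0 := two_ne_zero_of_odd_card F hodd
  have hj2 : j ^ 2 = 1 := by rw [← hord]; exact pow_orderOf_eq_one j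
  have hj1 : j ≠ 1 := by
    intro h
    rw [h, orderOf_one] at hord
    omega
  -- `e j = negOne`
  have hej : e ⟨j, hj⟩ = negOne F := by
    have hsq : (e ⟨j, hj⟩) ^ 2 = 1 := by
      rw [← map_pow]
      have : (⟨j, hj⟩ : ↥L) ^ 2 = 1 := Subtype.ext (by simpa using hj2)
      rw [this, map_one]
    rcases hU F h2 _ hsq with h | h
    · exfalso
      have : (⟨j, hj⟩ : ↥L) = 1 := by
        have := e.injective (h.trans (map_one e).symm)
        exact this
      exact hj1 (by simpa using congrArg Subtype.val this)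
    · exact h
  refine ⟨?_, ?_, ?_⟩
  · intro x hx hx2
    have hsq : (e ⟨x, hx⟩) ^ 2 = 1 := by
      rw [← map_pow]
      have : (⟨x, hx⟩ : ↥L) ^ 2 = 1 := Subtype.ext (by simpa using hx2)
      rw [this, map_one]
    rcases hU F h2 _ hsq with h | h
    · left
      have : (⟨x, hx⟩ : ↥L) = 1 := e.injective (h.trans (map_one e).symm)
      simpa using congrArg Subtype.val this
    · right
      have : (⟨x, hx⟩ : ↥L) = ⟨j, hj⟩ := e.injective (h.trans hej.symm)
      simpa using congrArg Subtype.val this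
  · refine ⟨(e.symm (qA F) : ↥L), (e.symm (qA F)).2, ?_⟩
    have h1 : (e.symm (qA F)) ^ 2 = (⟨j, hj⟩ : ↥L) := by
      apply e.injective
      rw [map_pow, MulEquiv.apply_symm_apply, hej, qA_sq]
    have := congrArg Subtype.val h1
    simpa using this
  · intro x hx hx2 u hu u' hu' hux hu'x
    have hxe : (e ⟨x, hx⟩) ^ 2 = negOne F := by
      rw [← map_pow, ← hej]
      congr 1
      exact Subtype.ext (by simpa using hx2)
    have hue : (e ⟨u, hu⟩) ^ 2 = e ⟨x, hx⟩ := by
      rw [← map_pow]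
      congr 1
      exact Subtype.ext (by simpa using hux)
    have hu'e : (e ⟨u', hu'⟩) ^ 2 = e ⟨x, hx⟩ := by
      rw [← map_pow]
      congr 1
      exact Subtype.ext (by simpa using hu'x)
    rcases hSQ F h2 _ _ _ hxe hue hu'e with h | h
    · left
      have : (⟨u', hu'⟩ : ↥L) = ⟨u, hu⟩ := e.injective h
      simpa using congrArg Subtype.val this
    · right
      have : (⟨u', hu'⟩ : ↥L) = ⟨u, hu⟩ * ⟨j, hj⟩ := by
        apply e.injective
        rw [h, map_mul, hej]
      simpa using congrArg Subtype.val this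

end Cfsg.Agent.Lib.Helper47.FW
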